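import Cfsg.Agent.H348.Tall.Gen
import Cfsg.Agent.H180.KM11Cube

/-!
# S2927 (team TALL, helper348): `Both K` for `K = M₁₁`
-/

set_option autoImplicit false

namespace Cfsg.Agent.H348.Tall.MEl

open Subgroup Cfsg Cfsg.Agent.H226.Tall Cfsg.Agent.H348.Tall Cfsg.Agent.H180.KM11 Cfsg.Agent.Cit.Eleven

/-- check -/
def chk (g : ZMod 3 × ZMod 3 × ZMod 3 × ZMod 3) : Bool :=
  !(decide (mm g g = (1, 0, 0, 1))) || decide (g = (1, 0, 0, 1)) || decide (g = (-1, 0, 0, -1)) ||
    !(decide (mm g (mm (mm (1, 1, 0, 1) g) (1, -1, 0, 1)) = mm (mm (mm (1, 1, 0, 1) g) (1, -1, 0, 1)) g)) ||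
    !(decide (mm g (mm (mm (1, 0, 1, 1) g) (1, 0, -1, 1)) = mm (mm (mm (1, 0, 1, 1) g) (1, 0, -1, 1)) g))

theorem chk_all : ∀ g, chk g = true := by decide +kernel

/-- a noncentral involution of `GL(2,3)` does not commute with all its conjugates -/
theorem nc_gl (g : ZMod 3 × ZMod 3 × ZMod 3 × ZMod 3) (h1 : mm g g = (1, 0, 0, 1)) (h2 : g ≠ (1, 0, 0, 1))
    (h3 : g ≠ (-1, 0, 0, -1)) :
    mm g (mm (mm (1, 1, 0, 1) g) (1, -1, 0, 1)) ≠ mm (mm (mm (1, 1, 0, 1) g) (1, -1, 0, 1)) g ∨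
    mm g (mm (mm (1, 0, 1, 1) g) (1, 0, -1, 1)) ≠ mm (mm (mm (1, 0, 1, 1) g) (1, 0, -1, 1)) g := by
  have h := chk_all g
  simp only [chk, Bool.or_eq_true, Bool.not_eq_true', decide_eq_true_eq, decide_eq_false_iff_not] at h
  tauto

theorem co_one : co (1 : X) = (1, 0, 0, 1) := by decide
theorem co_gu : co gu = (1, 1, 0, 1) := rfl
theorem co_gl : co gl = (1, 0, 1, 1) := rfl
theorem co_gui : co gu⁻¹ = (1, -1, 0, 1) := rfl
theorem co_gli : co gl⁻¹ = (1, 0, -1, 1) := rfl

theorem gu_cube : gu ^ 3 = 1 := by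
  apply co_injective
  rw [pow_succ, pow_two, co_mul, co_mul, co_gu, co_one]
  decide

theorem gu_ne : gu ≠ 1 := by
  intro h
  have := congrArg co h
  rw [co_gu, co_one] at this
  revert this
  decide

/-- **`M₁₁`** -/
theorem bothS_m11 {K : Type*} [Group K] (h : Cfsg.Spor.IsoM11 K) : BothS K := by
  have := Cfsg.Agent.Cit.Eleven.finite h
  constructor
  · intro z hz W hW hzW hn w hw _
    by_contra hne
    have hzz : z * z = 1 := hW z hzW
    have hz1 : z ≠ 1 := by
      rintro rfl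
      have := hz.1
      rw [orderOf_one] at this
      omega
    obtain ⟨e, he⟩ := exists_equiv h hz.1
    have hcomm : ∀ a ∈ W, ∀ b ∈ W, a * b = b * a := by
      intro a ha b hb
      have h1 := hW _ (mul_mem ha hb)
      have h2 := hW a ha
      have h3 := hW b hb
      have e1 : (a * b)⁻¹ = a * b := inv_eq_of_mul_eq_one_left h1
      have e2 : a⁻¹ = a := inv_eq_of_mul_eq_one_left h2
      have e3 : b⁻¹ = b := inv_eq_of_mul_eq_one_left h3
      rw [← e1, mul_inv_rev, e2, e3]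
    have hwC : w ∈ centralizer ({z} : Set K) := mem_centralizer_singleton_iff.2 (hcomm w hw z hzW)
    by_cases hw1 : w = 1
    · subst hw1
      rename_i hα
      obtain ⟨α, hα⟩ := hα
      exact hz1 (α.injective (by rw [hα, map_one]))
    have hg1 : mm (co (e ⟨w, hwC⟩)) (co (e ⟨w, hwC⟩)) = (1, 0, 0, 1) := by
      rw [← co_mul, ← map_mul, ← co_one, ← map_one e]
      exact congrArg (fun x => co (e x)) (Subtype.ext (hW w hw))
    have hg2 : co (e ⟨w, hwC⟩) ≠ (1, 0, 0, 1) := by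
      intro h1
      rw [← co_one, ← map_one e] at h1
      exact hw1 (congrArg Subtype.val (e.injective (co_injective h1)))
    have hg3 : co (e ⟨w, hwC⟩) ≠ (-1, 0, 0, -1) := by
      intro h1
      rw [← co_neg_one, ← he] at h1
      exact hne (congrArg Subtype.val (e.injective (co_injective h1)))
    have key : ∀ c : X, e ⟨w, hwC⟩ * (c * e ⟨w, hwC⟩ * c⁻¹) = c * e ⟨w, hwC⟩ * c⁻¹ * e ⟨w, hwC⟩ := by
      intro c
      obtain ⟨d, rfl⟩ := e.surjective c
      rw [← map_inv, ← map_mul, ← map_mul, ← map_mul, ← map_mul]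
      congr 1
      apply Subtype.ext
      show w * ((d : K) * w * (d : K)⁻¹) = (d : K) * w * (d : K)⁻¹ * w
      exact hcomm _ hw _ ((mem_normalizer_iff.1 (hn d.2) w).1 hw)
    rcases nc_gl _ hg1 hg2 hg3 with h4 | h4
    · apply h4
      have := congrArg co (key gu)
      simp only [co_mul, co_gu, co_gui] at this
      exact this
    · apply h4
      have := congrArg co (key gl)
      simp only [co_mul, co_gl, co_gli] at this
      exact this
  · intro z hz hp
    obtain ⟨e, he⟩ := exists_equiv h hz.1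
    obtain ⟨k, hk⟩ := hp (e.symm gu)
    have h1 : gu ^ 2 ^ k = 1 := by
      rw [← map_pow, ← map_one e.symm] at hk
      exact e.symm.injective hk
    have h3 : orderOf gu ∣ 2 ^ k := orderOf_dvd_of_pow_eq_one h1
    have h4 : orderOf gu = 3 := by
      have : Fact (Nat.Prime 3) := ⟨Nat.prime_three⟩
      exact orderOf_eq_prime gu_cube gu_ne
    rw [h4] at h3
    have h5 : 3 ∣ 2 := Nat.Prime.dvd_of_dvd_pow Nat.prime_three h3
    omega

theorem both_m11 {K : Type*} [Group K] (h : Cfsg.Spor.IsoM11 K) : Both K := (bothS_m11 h).both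

end Cfsg.Agent.H348.Tall.MEl
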