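import Cfsg.Agent.H348.Tall.Gen
import Cfsg.Agent.H188.Fx.U33Main

/-!
# S2927 (team TALL, helper348): `Both K` for `K = PSU₃(3)`
-/

set_option autoImplicit false

namespace Cfsg.Agent.H348.Tall.UThree

open Subgroup Cfsg Cfsg.Agent.H226.Tall Cfsg.Agent.H348.Tall Cfsg.Agent.H188.Fx
open Cfsg.Agent.H2.UniqCUThree Cfsg.Agent.Classification.RTwo.UThreeThree

theorem mem_nf {x : Cfsg.SU 3 K9 3} (h1 : x ∈ closure ({D1, D2, Sw} : Set (Cfsg.SU 3 K9 3))) :
    ∃ p : Fin 4 × Fin 4 × Fin 2, x = IsU33.nf D1 D2 Sw p := by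
  obtain ⟨i, j, k, hijk⟩ := wr_mem D1_pow D2_pow D_comm Sw_sq Sw_D h1
  have hma : D1 ^ i = D1 ^ (i % 4) := by
    conv_lhs => rw [← Nat.div_add_mod i 4]
    rw [pow_add, pow_mul, D1_pow, one_pow, one_mul]
  have hmb : D2 ^ j = D2 ^ (j % 4) := by
    conv_lhs => rw [← Nat.div_add_mod j 4]
    rw [pow_add, pow_mul, D2_pow, one_pow, one_mul]
  have hms : Sw ^ k = Sw ^ (k % 2) := by
    conv_lhs => rw [← Nat.div_add_mod k 2]
    rw [pow_add, pow_mul, pow_two, Sw_sq, one_pow, one_mul]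
  exact ⟨(⟨i % 4, Nat.mod_lt _ (by norm_num)⟩, ⟨j % 4, Nat.mod_lt _ (by norm_num)⟩,
      ⟨k % 2, Nat.mod_lt _ (by norm_num)⟩), by rw [hijk, hma, hmb, hms]; rfl⟩

theorem cen_mat : ∀ i j : Fin 4, ∀ k : Fin 2,
    (mD1 ^ (i : ℕ) * mD2 ^ (j : ℕ) * mS ^ (k : ℕ)) * (mD1 ^ (i : ℕ) * mD2 ^ (j : ℕ) * mS ^ (k : ℕ)) = 1 →
    (mD1 ^ (i : ℕ) * mD2 ^ (j : ℕ) * mS ^ (k : ℕ)) * mD1 = mD1 * (mD1 ^ (i : ℕ) * mD2 ^ (j : ℕ) * mS ^ (k : ℕ)) →
    (mD1 ^ (i : ℕ) * mD2 ^ (j : ℕ) * mS ^ (k : ℕ)) * mS = mS * (mD1 ^ (i : ℕ) * mD2 ^ (j : ℕ) * mS ^ (k : ℕ)) →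
    (i, j, k) = (0, 0, 0) ∨ (i, j, k) = (2, 2, 0) := by decide +kernel

/-- the matrix of an involution -/
def mI (l : Fin 7) : Matrix (Fin 3) (Fin 3) K9 :=
  mD1 ^ ((IsU33.ex7 l).1 : ℕ) * mD2 ^ ((IsU33.ex7 l).2.1 : ℕ) * mS ^ ((IsU33.ex7 l).2.2 : ℕ)

theorem ncY : ∀ l : Fin 7, (l = 1 ∨ l = 2) →
    mI l * (mY * mI l * mY ^ 2) ≠ mY * mI l * mY ^ 2 * mI l := by decide +kernel

theorem ncD : ∀ l : Fin 7, 3 ≤ l → mI l * (mD1 * mI l * mD1 ^ 3) ≠ mD1 * mI l * mD1 ^ 3 * mI l := by decide +kernel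

theorem both_model : BothS (Cfsg.SU 3 K9 3) := by
  have : Finite (Cfsg.SU 3 K9 3) := finite_su
  have : Fact (Nat.Prime 2) := ⟨Nat.prime_two⟩
  have hU := isU33_model
  obtain ⟨P, hP⟩ : ∃ P : Subgroup (Cfsg.SU 3 K9 3), P = closure {D1, D2, Sw} := ⟨_, rfl⟩
  have hcard : Nat.card P = 32 := by rw [hP]; exact wr_card D1_pow D2_pow D_comm Sw_sq Sw_D ker
  have hPp : IsPGroup 2 P := IsPGroup.of_card (n := 5) (by rw [hcard]; norm_num)
  have hPi : ¬ 2 ∣ P.index := by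
    have h1 := P.card_mul_index
    rw [hcard, card_su] at h1
    omega
  have hco : ((hPp.toSylow hPi : Sylow 2 (Cfsg.SU 3 K9 3)) : Subgroup (Cfsg.SU 3 K9 3)) = P := rfl
  have hD1 : D1 ∈ P := by rw [hP]; exact subset_closure (by simp)
  have hSw : Sw ∈ P := by rw [hP]; exact subset_closure (by simp)
  refine both_of_sylow (hPp.toSylow hPi) (D1 ^ 2 * D2 ^ 2) ?_ ?_ ?_ Y hU.yZ hU.y3 hU.y1
  · rw [hco, hP, closure_le]
    rintro x (rfl | rfl | rfl)
    · exact hU.cent_a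
    · exact hU.cent_b
    · exact hU.cent_s
  · intro x hx hxx hx1 hc
    rw [hco, hP] at hx
    obtain ⟨p, rfl⟩ := mem_nf hx
    have h1 := congrArg mt' hxx
    rw [mt_mul', mt_nf] at h1
    have h2 := congrArg mt' (hc D1 (by rw [hco]; exact hD1))
    rw [mt_mul', mt_mul', mt_nf] at h2
    have h3 := congrArg mt' (hc Sw (by rw [hco]; exact hSw))
    rw [mt_mul', mt_mul', mt_nf] at h3
    rcases cen_mat p.1 p.2.1 p.2.2 h1 h2 h3 with h4 | h4
    · exfalso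
      apply hx1
      have h5 : p = (0, 0, 0) := h4
      rw [h5]
      simp [IsU33.nf]
    · have h5 : p = (2, 2, 0) := h4
      rw [h5]
      show D1 ^ 2 * D2 ^ 2 * Sw ^ 0 = _
      rw [pow_zero, mul_one]
  · intro w hw hww hw1 hwz
    rw [hco, hP] at hw
    obtain ⟨p, rfl⟩ := mem_nf hw
    have h1 := congrArg mt' hww
    rw [mt_mul', mt_nf] at h1
    rcases inv_cases_mat p.1 p.2.1 p.2.2 h1 with h4 | ⟨l, h4⟩
    · exfalso
      apply hw1
      have h5 : p = (0, 0, 0) := h4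
      rw [h5]
      simp [IsU33.nf]
    · have h5 : p = IsU33.ex7 l := h4
      subst h5
      have hmt : mt' (IsU33.nf D1 D2 Sw (IsU33.ex7 l)) = mI l := mt_nf _
      have hl0 : l ≠ 0 := by
        rintro rfl
        apply hwz
        show D1 ^ 2 * D2 ^ 2 * Sw ^ 0 = _
        rw [pow_zero, mul_one]
      have hYi : (Y : Cfsg.SU 3 K9 3)⁻¹ = Y ^ 2 := by
        rw [inv_eq_iff_mul_eq_one, ← pow_succ']; exact hU.y3
      have hDi : (D1 : Cfsg.SU 3 K9 3)⁻¹ = D1 ^ 3 := by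
        rw [inv_eq_iff_mul_eq_one, ← pow_succ']; exact hU.a4
      by_cases hl : l = 1 ∨ l = 2
      · refine ⟨Y, hU.yZ, fun h => ncY l hl ?_⟩
        rw [hYi] at h
        have h6 := congrArg mt' h
        rw [mt_mul', mt_mul', mt_mul', mt_mul', mt_pow, hmt] at h6
        exact h6
      · have hl3 : 3 ≤ l := by
          have key : ∀ l : Fin 7, l ≠ 0 → ¬ (l = 1 ∨ l = 2) → 3 ≤ l := by decide
          exact key l hl0 hl
        refine ⟨D1, hU.aZ, fun h => ncD l hl3 ?_⟩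
        rw [hDi] at h
        have h6 := congrArg mt' h
        rw [mt_mul', mt_mul', mt_mul', mt_mul', mt_pow, hmt] at h6
        exact h6

/-- **`PSU₃(3)`** -/
theorem bothS_psu33 {F : Type*} [Field F] [Fintype F] (hF : Fintype.card F = 9) : BothS (Cfsg.PSU 3 F 3) := by
  have hcard : Fintype.card F = Fintype.card K9 := by rw [hF, card_k9]
  let e := (psuEquiv hF).trans
    (LieClassical.FieldTransfer.suCongr 3 3 (FiniteField.ringEquivOfCardEq hcard))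
  have : Finite (Cfsg.SU 3 K9 3) := finite_su
  have : Finite (Cfsg.PSU 3 F 3) := Finite.of_injective e e.injective
  exact both_model.congr e

theorem both_psu33 {F : Type*} [Field F] [Fintype F] (hF : Fintype.card F = 9) {K : Type*} [Group K]
    (h : Nonempty (K ≃* Cfsg.PSU 3 F 3)) : Both K := by
  obtain ⟨e⟩ := h
  have hcard : Fintype.card F = Fintype.card K9 := by rw [hF, card_k9]
  let e' := (psuEquiv hF).trans
    (LieClassical.FieldTransfer.suCongr 3 3 (FiniteField.ringEquivOfCardEq hcard))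
  have : Finite (Cfsg.SU 3 K9 3) := finite_su
  have : Finite K := Finite.of_injective (e.trans e') (e.trans e').injective
  exact (both_model.congr (e.trans e')).both

end Cfsg.Agent.H348.Tall.UThree
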